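import Mathlib
set_option autoImplicit false
/-! Homomorphic images isomorphic to `Z_p ≀ Z_p`. -/

open Polynomial

namespace Cfsg.Agent.L0.Wreath

universe u

variable {p : ℕ} [Fact p.Prime]

/-- linear independence of the `p` shifts of a function with nonzero norm. -/
theorem shift_independent {A : Type*} (f : A → ZMod p) (c : A → A) (hc : ∀ a, f (c^[p] a) = f a) (x : A)
    (hx : ∑ i ∈ Finset.range p, f (c^[i] x) ≠ 0) (k : ℕ → ZMod p) (h : ∀ a, ∑ i ∈ Finset.range p, k i * f (c^[i] a) = 0) :
    ∀ i < p, k i = 0 := by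
  classical
  let Y : (A → ZMod p) →ₗ[ZMod p] (A → ZMod p) := LinearMap.funLeft (ZMod p) (ZMod p) c
  have hYpow : ∀ (i : ℕ) (g : A → ZMod p) (a : A), ((Y ^ i) g) a = g (c^[i] a) := by
    intro i
    induction i with
    | zero => intro g a; simp
    | succ i ih =>
      intro g a
      rw [pow_succ, Module.End.mul_apply, ih]
      change (Y g) (c^[i] a) = _
      rw [LinearMap.funLeft_apply, Function.iterate_succ_apply']
  let q : (ZMod p)[X] := ∑ i ∈ Finset.range p, C (k i) * X ^ i
  have hq : (aeval Y q) f = 0 := by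
    funext a
    simp only [q, map_sum, map_mul, aeval_C, map_pow, aeval_X, LinearMap.sum_apply, Finset.sum_apply]
    rw [Pi.zero_apply, ← h a]
    refine Finset.sum_congr rfl fun i _ => ?_
    rw [Module.End.mul_apply, Module.algebraMap_end_apply, Pi.smul_apply, hYpow, smul_eq_mul]
  have hp : (aeval Y ((X - 1 : (ZMod p)[X]) ^ p)) f = 0 := by
    rw [sub_pow_char]
    funext a
    simp only [map_sub, map_pow, aeval_X, map_one, LinearMap.sub_apply, one_pow]
    rw [Pi.sub_apply, hYpow, hc, Module.End.one_apply, sub_self, Pi.zero_apply]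
  have hnorm : (aeval Y ((X - 1 : (ZMod p)[X]) ^ (p - 1))) f ≠ 0 := by
    have h1 : ((X - 1 : (ZMod p)[X]) ^ (p - 1)) = ∑ i ∈ Finset.range p, X ^ i := by
      have h2 : (∑ i ∈ Finset.range p, X ^ i) * (X - 1 : (ZMod p)[X]) = (X - 1) ^ (p - 1) * (X - 1) := by
        rw [geom_sum_mul, ← pow_succ, Nat.sub_add_cancel (Fact.out : p.Prime).one_le, sub_pow_char, one_pow]
      have h3 : (X - 1 : (ZMod p)[X]) ≠ 0 := by
        have := Polynomial.X_sub_C_ne_zero (1 : ZMod p)
        rwa [C_1] at this
      exact (mul_right_cancel₀ h3 h2).symm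
    rw [h1]
    intro h2
    apply hx
    have h3 := congrFun h2 x
    simp only [map_sum, map_pow, aeval_X, LinearMap.sum_apply, Finset.sum_apply] at h3
    rw [Pi.zero_apply] at h3
    rw [← h3]
    exact Finset.sum_congr rfl fun i _ => (hYpow i f x).symm
  have hq0 : q = 0 := by
    by_contra hq0
    apply hnorm
    have hprime : Prime (X - 1 : (ZMod p)[X]) := by
      have := Polynomial.prime_X_sub_C (1 : ZMod p)
      rwa [C_1] at this
    obtain ⟨d, hd, u, hu⟩ := (dvd_prime_pow hprime p).mp (EuclideanDomain.gcd_dvd_right q ((X - 1 : (ZMod p)[X]) ^ p))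
    have hg : (aeval Y (EuclideanDomain.gcd q ((X - 1 : (ZMod p)[X]) ^ p))) f = 0 := by
      rw [EuclideanDomain.gcd_eq_gcd_ab, mul_comm q, mul_comm (_ ^ p), map_add, map_mul, map_mul, LinearMap.add_apply,
        Module.End.mul_apply, Module.End.mul_apply, hq, hp, map_zero, map_zero, add_zero]
    have hdeg : d < p := by
      by_contra hdp
      have h4 : (X - 1 : (ZMod p)[X]) ^ d ∣ q := by
        rw [← hu]
        exact (Units.mul_right_dvd).mpr (EuclideanDomain.gcd_dvd_left _ _)
      have h5 := Polynomial.natDegree_le_of_dvd h4 hq0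
      have h6 : q.natDegree < p := by
        refine lt_of_le_of_lt (Polynomial.natDegree_sum_le_of_forall_le (n := p - 1) _ _ fun i hi => ?_) (Nat.sub_lt (Fact.out : p.Prime).pos one_pos)
        refine (Polynomial.natDegree_C_mul_X_pow_le _ _).trans ?_
        have := Finset.mem_range.mp hi
        omega
      have h7 : ((X - 1 : (ZMod p)[X]) ^ d).natDegree = d := by
        rw [← C_1, Polynomial.natDegree_pow, Polynomial.natDegree_X_sub_C, mul_one]
      omega
    have h8 : EuclideanDomain.gcd q ((X - 1 : (ZMod p)[X]) ^ p) ∣ (X - 1 : (ZMod p)[X]) ^ (p - 1) := by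
      have h9 : (X - 1 : (ZMod p)[X]) ^ d ∣ (X - 1 : (ZMod p)[X]) ^ (p - 1) := pow_dvd_pow _ (by omega)
      rw [← hu] at h9
      exact (Units.mul_right_dvd).mp h9
    obtain ⟨r, hr⟩ := h8
    rw [hr, mul_comm, map_mul, Module.End.mul_apply, hg, map_zero]
  intro i hi
  have h1 := congrArg (fun r : (ZMod p)[X] => r.coeff i) hq0
  simp only [q, finsetSum_coeff, coeff_C_mul, coeff_X_pow, coeff_zero] at h1
  rw [Finset.sum_eq_single i] at h1
  · simpa using h1
  · intro b _ hb
    rw [if_neg hb.symm, mul_zero]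
  · intro h
    exact absurd (Finset.mem_range.mpr hi) h

theorem card_sylow_perm (W : Sylow p (Equiv.Perm (Fin (p ^ 2)))) : Nat.card W = p ^ (p + 1) := by
  have hp : p.Prime := Fact.out
  rw [Sylow.card_eq_multiplicity, Nat.card_perm, Nat.card_fin, Nat.factorization_def _ hp, pow_two, padicValNat_factorial_mul]
  have h1 := padicValNat_factorial_mul (p := p) 1
  rw [mul_one] at h1
  rw [h1]
  simp [add_comm]

/-- the monomial construction. -/
theorem exists_surj {P : Type u} [Group P] [Finite P] (hP : IsPGroup p P) (R : Subgroup P) [hR : R.Normal] (hidx : R.index = p)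
    (ν : R →* Multiplicative (ZMod p)) (s : P) (x : R)
    (hx : ∏ i ∈ Finset.range p, ν ((MulAut.conjNormal s⁻¹ : MulAut R)^[i] x) ≠ 1) :
    ∃ (Q : Sylow p (Equiv.Perm (Fin (p ^ 2)))) (f : P →* ↥(Q : Subgroup (Equiv.Perm (Fin (p ^ 2))))), Function.Surjective f := by
  classical
  have hp : p.Prime := Fact.out
  let c : R → R := (MulAut.conjNormal s⁻¹ : MulAut R)
  let f : R → ZMod p := fun a => Multiplicative.toAdd (ν a)
  have hci : ∀ (i : ℕ) (a : R), ((c^[i] a : R) : P) = (s ^ i)⁻¹ * a * s ^ i := by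
    intro i
    induction i with
    | zero => intro a; simp
    | succ i ih =>
      intro a
      rw [Function.iterate_succ_apply', pow_succ]
      change (((MulAut.conjNormal s⁻¹ : MulAut R) (c^[i] a) : R) : P) = _
      rw [MulAut.conjNormal_apply, ih]
      group
  have hcp : ∀ a, f (c^[p] a) = f a := by
    intro a
    have h1 : s ^ p ∈ R := by
      have := Subgroup.pow_index_mem R s
      rwa [hidx] at this
    have h2 : c^[p] a = (⟨s ^ p, h1⟩ : R)⁻¹ * a * ⟨s ^ p, h1⟩ := Subtype.ext (hci p a)
    have h3 : ν (c^[p] a) = ν a := by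
      rw [h2, map_mul, map_mul, map_inv, mul_comm _ (ν a), inv_mul_cancel_right]
    exact congrArg Multiplicative.toAdd h3
  have hx' : ∑ i ∈ Finset.range p, f (c^[i] x) ≠ 0 := by
    intro h
    apply hx
    apply Multiplicative.toAdd.injective
    rw [toAdd_prod]
    exact h
  let Φ : R →* Multiplicative (Fin p → ZMod p) :=
    { toFun := fun a => Multiplicative.ofAdd (fun i => f (c^[(i : ℕ)] a))
      map_one' := by
        apply Multiplicative.toAdd.injective
        funext i
        have : c^[(i : ℕ)] 1 = 1 := Subtype.ext (by rw [hci]; simp)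
        change f (c^[(i : ℕ)] 1) = 0
        rw [this]
        change Multiplicative.toAdd (ν 1) = 0
        rw [map_one]; rfl
      map_mul' := fun a b => by
        apply Multiplicative.toAdd.injective
        funext i
        have : c^[(i : ℕ)] (a * b) = c^[(i : ℕ)] a * c^[(i : ℕ)] b := Subtype.ext (by
          rw [hci, Subgroup.coe_mul, Subgroup.coe_mul, hci, hci]; group)
        change f (c^[(i : ℕ)] (a * b)) = f (c^[(i : ℕ)] a) + f (c^[(i : ℕ)] b)
        rw [this]
        change Multiplicative.toAdd (ν _) = _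
        rw [map_mul]; rfl }
  have hΦ : Function.Surjective Φ := by
    rw [← MonoidHom.range_eq_top]
    by_contra hne
    let W : AddSubgroup (Fin p → ZMod p) := Subgroup.toAddSubgroup' Φ.range
    have hW : ∀ v, v ∈ W ↔ Multiplicative.ofAdd v ∈ Φ.range := fun v => Iff.rfl
    have hlt : AddSubgroup.toZModSubmodule p W < ⊤ := by
      rw [lt_top_iff_ne_top]
      intro h
      apply hne
      rw [eq_top_iff]
      intro v _
      have h1 : Multiplicative.toAdd v ∈ AddSubgroup.toZModSubmodule p W := by rw [h]; trivial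
      exact (hW _).mp h1
    obtain ⟨g, hg0, hg⟩ := Submodule.exists_le_ker_of_lt_top _ hlt
    let k : ℕ → ZMod p := fun i => if h : i < p then g (fun j => if (⟨i, h⟩ : Fin p) = j then 1 else 0) else 0
    have h1 : ∀ a, ∑ i ∈ Finset.range p, k i * f (c^[i] a) = 0 := by
      intro a
      have h2 : Multiplicative.toAdd (Φ a) ∈ AddSubgroup.toZModSubmodule p W := (hW _).mpr ⟨a, rfl⟩
      have h3 : g (Multiplicative.toAdd (Φ a)) = 0 := hg h2
      rw [LinearMap.pi_apply_eq_sum_univ] at h3
      rw [Finset.sum_range, ← h3]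
      refine Finset.sum_congr rfl fun i _ => ?_
      simp only [k]
      rw [dif_pos i.2, smul_eq_mul, mul_comm]
      rfl
    have h2 := shift_independent f c hcp x hx' k h1
    apply hg0
    apply LinearMap.ext
    intro v
    rw [LinearMap.pi_apply_eq_sum_univ, LinearMap.zero_apply]
    refine Finset.sum_eq_zero fun i _ => ?_
    have h3 := h2 i i.2
    simp only [k] at h3
    rw [dif_pos i.2] at h3
    rw [h3, smul_zero]
  -- the point stabilizer
  let L : Subgroup P := ν.ker.map R.subtype
  have hνs : Function.Surjective ν := by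
    have h1 : ν.range ≠ ⊥ := by
      intro h
      apply hx
      refine Finset.prod_eq_one fun i _ => ?_
      have : ν ((MulAut.conjNormal s⁻¹ : MulAut R)^[i] x) ∈ ν.range := ⟨_, rfl⟩
      rw [h] at this
      exact Subgroup.mem_bot.mp this
    rw [← MonoidHom.range_eq_top]
    have h2 : (Nat.card (Multiplicative (ZMod p))).Prime := by
      change (Nat.card (ZMod p)).Prime
      rw [Nat.card_zmod]; exact hp
    haveI : Fact (Nat.card (Multiplicative (ZMod p))).Prime := ⟨h2⟩
    rcases ν.range.eq_bot_or_eq_top_of_prime_card with h | h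
    · exact absurd h h1
    · exact h
  have hkν : ν.ker.index = p := by
    rw [Subgroup.index_ker, MonoidHom.range_eq_top.mpr hνs, Subgroup.card_top]
    change Nat.card (ZMod p) = p
    exact Nat.card_zmod p
  have hkΦ : Φ.ker.index = p ^ p := by
    rw [Subgroup.index_ker, MonoidHom.range_eq_top.mpr hΦ, Subgroup.card_top]
    change Nat.card (Fin p → ZMod p) = p ^ p
    rw [Nat.card_fun, Nat.card_zmod, Nat.card_fin]
  have hL : L.index = p ^ 2 := by
    change (ν.ker.map R.subtype).index = _
    rw [Subgroup.index_map_subtype, hkν, hidx, pow_two]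
  have hcore : L.normalCore ≤ Φ.ker.map R.subtype := by
    intro y hy
    have h1 := L.normalCore_le hy
    obtain ⟨r, -, rfl⟩ := h1
    refine ⟨r, ?_, rfl⟩
    change Φ r = 1
    apply Multiplicative.toAdd.injective
    funext i
    change f (c^[(i : ℕ)] r) = 0
    have h2 : ((c^[(i : ℕ)] r : R) : P) ∈ L.normalCore := by
      rw [hci]
      have := (inferInstance : L.normalCore.Normal).conj_mem _ hy (s ^ (i : ℕ))⁻¹
      rwa [inv_inv] at this
    obtain ⟨t, ht, hte⟩ := L.normalCore_le h2
    have h3 : t = c^[(i : ℕ)] r := Subtype.ext hte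
    rw [h3] at ht
    change Multiplicative.toAdd (ν _) = 0
    have h4 : ν (c^[(i : ℕ)] r) = 1 := ht
    rw [h4]; rfl
  have hcard : p ^ (p + 1) ∣ L.normalCore.index := by
    have h1 := Subgroup.index_dvd_of_le hcore
    rw [Subgroup.index_map_subtype, hkΦ, hidx, ← pow_succ] at h1
    exact h1
  have hfin : Nat.card (P ⧸ L) = p ^ 2 := hL
  have e : (P ⧸ L) ≃ Fin (p ^ 2) := Finite.equivFinOfCardEq hfin
  let F : P →* Equiv.Perm (Fin (p ^ 2)) := (e.permCongrHom.toMonoidHom).comp (MulAction.toPermHom P (P ⧸ L))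
  have hFker : F.ker = L.normalCore := by
    rw [Subgroup.normalCore_eq_ker]
    ext y
    rw [MonoidHom.mem_ker, MonoidHom.mem_ker]
    change e.permCongrHom (MulAction.toPermHom P (P ⧸ L) y) = 1 ↔ _
    exact MulEquiv.map_eq_one_iff _
  have hFr : IsPGroup p F.range := by
    have := hP.of_surjective F.rangeRestrict F.rangeRestrict_surjective
    exact this
  obtain ⟨Q, hQ⟩ := hFr.exists_le_sylow
  have hQc := card_sylow_perm Q
  have hFc : p ^ (p + 1) ∣ Nat.card F.range := by
    rw [← Subgroup.index_ker, hFker]; exact hcard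
  have hFQ : F.range = (Q : Subgroup (Equiv.Perm (Fin (p ^ 2)))) := by
    apply Subgroup.eq_of_le_of_card_ge hQ
    have h1 : Nat.card (Q : Subgroup (Equiv.Perm (Fin (p ^ 2)))) = p ^ (p + 1) := hQc
    rw [h1]
    exact Nat.le_of_dvd Nat.card_pos hFc
  refine ⟨Q, F.codRestrict (Q : Subgroup (Equiv.Perm (Fin (p ^ 2)))) (fun y => hQ ⟨y, rfl⟩), ?_⟩
  rintro ⟨y, hy⟩
  rw [← hFQ] at hy
  obtain ⟨z, rfl⟩ := hy
  exact ⟨z, rfl⟩

theorem exists_functional_mod {V : Type*} [AddCommGroup V] [Module (ZMod p) V]
    {z : V} (hz : z ≠ 0) : ∃ ν : V →+ ZMod p, ν z ≠ 0 := by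
  by_contra h
  refine hz ((Module.forall_dual_apply_eq_zero_iff (ZMod p) z).mp fun φ => ?_)
  by_contra h1
  exact h ⟨φ.toAddMonoidHom, h1⟩

theorem exists_functional_add {V : Type*} [AddCommGroup V] (hp : ∀ a : V, p • a = 0)
    {z : V} (hz : z ≠ 0) : ∃ ν : V →+ ZMod p, ν z ≠ 0 :=
  @exists_functional_mod p _ V _ (AddCommGroup.zmodModule hp) z hz

theorem exists_functional_comm {A : Type*} [CommGroup A] (hp : ∀ a : A, a ^ p = 1)
    {z : A} (hz : z ≠ 1) : ∃ ν : A →* Multiplicative (ZMod p), ν z ≠ 1 := by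
  obtain ⟨φ, hφ⟩ := exists_functional_add (V := Additive A) (p := p) (fun a => by
    change Additive.ofMul ((Additive.toMul a) ^ p) = 0
    rw [hp]; rfl) (z := Additive.ofMul z) (fun h => hz h)
  refine ⟨AddMonoidHom.toMultiplicativeRight φ, ?_⟩
  intro h
  apply hφ
  exact congrArg Multiplicative.toAdd h

theorem exists_functional {A : Type*} [Group A] (hc : ∀ a b : A, a * b = b * a) (hp : ∀ a : A, a ^ p = 1)
    {z : A} (hz : z ≠ 1) : ∃ ν : A →* Multiplicative (ZMod p), ν z ≠ 1 := by
  let inst : CommGroup A := { (inferInstance : Group A) with mul_comm := hc }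
  exact exists_functional_comm (A := A) hp hz

theorem prod_list_range {M : Type*} [CommMonoid M] (f : ℕ → M) (n : ℕ) : ((List.range n).map f).prod = ∏ i ∈ Finset.range n, f i := by
  induction n with
  | zero => simp
  | succ n ih => rw [List.range_succ, List.map_append, List.prod_append, ih, Finset.prod_range_succ]; simp

/-- S1952 -/
theorem exists_surj_of_list {P : Type u} [Group P] [Finite P] (hP : IsPGroup p P) (A : Subgroup P) [A.Normal]
    (hc : ∀ a b : A, a * b = b * a) (hp : ∀ a : A, a ^ p = 1) (hidx : A.index = p) (x y : P) (hx : x ∈ A)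
    (hprod : ((List.range p).map (fun i => (y ^ i)⁻¹ * x * y ^ i)).prod ≠ 1) :
    ∃ (Q : Sylow p (Equiv.Perm (Fin (p ^ 2)))) (f : P →* ↥(Q : Subgroup (Equiv.Perm (Fin (p ^ 2))))), Function.Surjective f := by
  have h1 : ∀ (i : ℕ), ((((MulAut.conjNormal y⁻¹ : MulAut A)^[i] ⟨x, hx⟩ : A) : P)) = (y ^ i)⁻¹ * x * y ^ i := by
    intro i
    induction i with
    | zero => simp
    | succ i ih =>
      rw [Function.iterate_succ_apply', pow_succ, MulAut.conjNormal_apply, ih]
      group
  obtain ⟨ν, hν⟩ := exists_functional (p := p) (A := A) hc hp (z := ((List.range p).map (fun i => (MulAut.conjNormal y⁻¹ : MulAut A)^[i] ⟨x, hx⟩)).prod) (by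
    intro h
    apply hprod
    have h2 := congrArg A.subtype h
    rw [map_list_prod, List.map_map, map_one] at h2
    rw [← h2]
    congr 1
    apply List.map_congr_left
    intro i _
    exact (h1 i).symm)
  refine exists_surj hP A hidx ν y ⟨x, hx⟩ ?_
  rw [map_list_prod, List.map_map, prod_list_range] at hν
  exact hν

end Cfsg.Agent.L0.Wreath
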